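import Cfsg.Agent.SuzukiTI.Geometry
import Cfsg.Agent.S0346
import Cfsg.Agent.S0347
import Cfsg.Agent.S2202
import Cfsg.Agent.BenderTI.KTwo
import Cfsg.Agent.SL2Class.Classes

/-!
# Suzuki's theorem for a TI subgroup equal to its involution centralisers

If `K` is not normal, has at least two involutions, contains the centralisers of its non-trivial
elements and is the centraliser of each of its involutions, then the group is `PSL(2, 2^n)` or has
the order of a Suzuki group, and is simple; `K` is a 2-group.
-/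

set_option autoImplicit false

open Subgroup MulAction
open Cfsg.Agent.Fg24.CT (Inv2)

namespace Cfsg.Agent.SuzukiTI

universe u

variable {G : Type u} [Group G] [Finite G] {K : Subgroup G}

theorem Hyp.isPGroup (H : Hyp K) : IsPGroup 2 K := by
  haveI := H.simple
  haveI := Fintype.ofFinite (Pt K)
  have h := S0346.result H.zassenhaus
  rw [← Nat.card_eq_fintype_card, H.card_pt, Nat.add_sub_cancel] at h
  obtain ⟨p, k, hp, hk, he⟩ := (isPrimePow_nat_iff _).mp h
  have h2 : p = 2 := by
    have h22 : 2 ∣ p ^ k := he ▸ H.two_dvd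
    exact ((Nat.prime_dvd_prime_iff_eq Nat.prime_two hp).mp (Nat.prime_two.dvd_of_dvd_pow h22)).symm
  exact IsPGroup.of_card (n := k) (by rw [← he, h2])

/-- Abelian case. -/
theorem Hyp.psl (H : Hyp K) (hab : ∀ x ∈ K, ∀ y ∈ K, x * y = y * x) :
    ∃ (F : Type) (_ : Field F) (_ : Fintype F), CharP F 2 ∧ 4 ≤ Fintype.card F ∧
      Nonempty (G ≃* Matrix.SpecialLinearGroup (Fin 2) F) ∧
      Nonempty (G ≃* Matrix.ProjectiveSpecialLinearGroup (Fin 2) F) := by
  classical
  obtain ⟨a, b, ha, hb, ha2, hb2, hne⟩ := H.two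
  haveI := H.simple
  have heven : Even (Nat.card G) := by
    rw [even_iff_two_dvd, ← orderOf_inv2 ha2]
    exact orderOf_dvd_natCard a
  have hcent : ∀ t : G, orderOf t = 2 → IsMulCommutative (centralizer ({t} : Set G)) := by
    intro t ht
    obtain ⟨g, hg⟩ := isConj_iff.mp (H.isConj_all ha ha2 (inv2_of_orderOf ht))
    refine ⟨⟨fun x y => Subtype.ext ?_⟩⟩
    have hmem : ∀ z : centralizer ({t} : Set G), g⁻¹ * (z : G) * g ∈ K := fun z => by
      refine H.mem_of_commute ha ha2 ?_
      have h1 : Commute (z : G) t := mem_centralizer_singleton_iff.mp z.2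
      have h2 := (Commute.conj_iff g⁻¹).mpr h1
      rw [inv_inv] at h2
      rwa [show g⁻¹ * t * g = a by rw [← hg]; group] at h2
    have := hab _ (hmem x) _ (hmem y)
    show (x : G) * y = y * x
    calc (x : G) * y = g * ((g⁻¹ * x * g) * (g⁻¹ * y * g)) * g⁻¹ := by group
      _ = _ := by rw [this]; group
  rcases S2202.result heven hcent with h | h | ⟨F, iF, iF', A, iA, iA', hchar, -, ⟨e⟩⟩
  · exfalso
    haveI : Fact (Nat.Prime 2) := ⟨Nat.prime_two⟩
    have hcomm : Commute a b := hab a ha b hb
    have hV : IsPGroup 2 (closure ({a, b} : Set G)) :=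
      H.isPGroup.to_le ((closure_le K).mpr (by
        rintro x (rfl | rfl) <;> assumption))
    obtain ⟨P, hP⟩ := hV.exists_le_sylow
    have haP : a ∈ (P : Subgroup G) := hP (subset_closure (Or.inl rfl))
    have hbP : b ∈ (P : Subgroup G) := hP (subset_closure (Or.inr rfl))
    haveI := Fintype.ofFinite (P : Subgroup G)
    haveI := h P
    have h2 := IsCyclic.card_pow_eq_one_le (α := (P : Subgroup G)) (n := 2) two_pos
    have h3 : ({1, ⟨a, haP⟩, ⟨b, hbP⟩} : Finset (P : Subgroup G)) ⊆
        Finset.univ.filter fun x => x ^ 2 = 1 := by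
      intro x hx
      simp only [Finset.mem_insert, Finset.mem_singleton] at hx
      refine Finset.mem_filter.mpr ⟨Finset.mem_univ _, ?_⟩
      rcases hx with rfl | rfl | rfl
      · exact one_pow _
      · exact Subtype.ext (by rw [Subgroup.coe_pow, pow_two]; exact ha2.2)
      · exact Subtype.ext (by rw [Subgroup.coe_pow, pow_two]; exact hb2.2)
    have h4 : ({1, ⟨a, haP⟩, ⟨b, hbP⟩} : Finset (P : Subgroup G)).card = 3 :=
      Finset.card_eq_three.mpr ⟨_, _, _, fun e => ha2.1 (congrArg Subtype.val e).symm,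
        fun e => hb2.1 (congrArg Subtype.val e).symm, fun e => hne (congrArg Subtype.val e), rfl⟩
    have := (Finset.card_le_card h3).trans h2
    omega
  · exfalso
    haveI : Fact (Nat.Prime 2) := ⟨Nat.prime_two⟩
    obtain ⟨P⟩ : Nonempty (Sylow 2 G) := inferInstance
    rcases (h P).eq_bot_or_eq_top with hP | hP
    · exact P.ne_bot_of_dvd_card (even_iff_two_dvd.mp heven) hP
    · have hG2 : IsPGroup 2 G := fun x => by
        obtain ⟨k, hk⟩ := P.2 ⟨x, hP ▸ mem_top x⟩
        exact ⟨k, congrArg Subtype.val hk⟩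
      have := hG2.center_nontrivial
      have hZ : center G = ⊤ := ((center G).normal_of_characteristic).eq_bot_or_eq_top.resolve_left
        ((nontrivial_iff_ne_bot _).mp this)
      refine H.notNormal (eq_top_iff.mpr fun x _ => mem_normalizer_iff.mpr fun k => ?_)
      have hx : x * k * x⁻¹ = k := by
        have h9 : k * x = x * k := ((mem_center_iff.mp (hZ ▸ mem_top x)) k)
        rw [← h9, mul_inv_cancel_right]
      rw [hx]
  · have hA : Subsingleton A := by
      let π : G →* A := (MonoidHom.snd _ A).comp e.toMonoidHom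
      have hπ : Function.Surjective π := fun x => ⟨e.symm (1, x), by simp [π]⟩
      rcases (π.normal_ker).eq_bot_or_eq_top with hk | hk
      · exfalso
        have hinj : Function.Injective π := (MonoidHom.ker_eq_bot_iff π).mp hk
        refine H.notNormal (eq_top_iff.mpr fun x _ => mem_normalizer_iff.mpr fun k => ?_)
        have hx : x * k * x⁻¹ = k := hinj (by rw [map_mul, map_mul, map_inv, mul_comm (π x), mul_inv_cancel_right])
        rw [hx]
      · refine ⟨fun x y => ?_⟩
        obtain ⟨p, rfl⟩ := hπ x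
        obtain ⟨q, rfl⟩ := hπ y
        rw [show π p = 1 from MonoidHom.mem_ker.mp (hk ▸ mem_top p),
          show π q = 1 from MonoidHom.mem_ker.mp (hk ▸ mem_top q)]
    haveI := hA
    haveI : Unique A := uniqueOfSubsingleton 1
    let e' : G ≃* Matrix.SpecialLinearGroup (Fin 2) F := e.trans MulEquiv.prodUnique
    obtain ⟨e₂⟩ := BenderTI.psl_equiv (F := F)
    refine ⟨F, iF, iF', hchar, ?_, ⟨e'⟩, ⟨e'.trans e₂⟩⟩
    by_contra hlt
    have hc2 : 1 < Fintype.card F := Fintype.one_lt_card
    obtain ⟨n, -, hn⟩ := FiniteField.card F 2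
    have hn1 : Fintype.card F = 2 := by
      have : (n : ℕ) = 1 := by
        by_contra hne'
        have h2 : 2 ^ 2 ≤ 2 ^ (n : ℕ) := Nat.pow_le_pow_right (by norm_num) (by have := n.pos; omega)
        omega
      rw [hn, this, pow_one]
    have hsix : Nat.card G ∣ 6 := by
      rw [Nat.card_congr e'.toEquiv, SL2Class.card_sl, hn1]
      norm_num
    have hdvd : 4 ∣ Nat.card G := by
      have h4 : 4 ∣ Nat.card K := by
        obtain ⟨m, hm⟩ := H.isPGroup.exists_card_eq
        have h2 := H.numInv_two
        have : m ≠ 1 ∧ m ≠ 0 := by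
          constructor <;> intro e0 <;> subst e0
          · have hle : numInv K ≤ 1 := by
              have : Nat.card {x : K // x ≠ 1} = 1 := by
                haveI := Fintype.ofFinite K
                rw [Nat.card_eq_fintype_card, Fintype.card_subtype_compl, Fintype.card_subtype_eq,
                  ← Nat.card_eq_fintype_card, hm, pow_one]
              refine le_trans (Nat.card_le_card_of_injective
                (fun t => (⟨⟨t.1, t.2.1⟩, fun e0 => t.2.2.1 (congrArg Subtype.val e0)⟩ : {x : K // x ≠ 1}))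
                fun s t e0 => Subtype.ext (congrArg (fun z => ((z.1 : K) : G)) e0 :)) this.le
            omega
          · rw [pow_zero] at hm
            have := H.two_dvd
            omega
        rw [hm]
        exact ⟨2 ^ (m - 2), by rw [show (4 : ℕ) = 2 ^ 2 by norm_num, ← pow_add]; congr 1; omega⟩
      exact h4.trans K.card_subgroup_dvd_card
    have := hdvd.trans hsix
    omega

/-- Suzuki's theorem in this configuration. -/
theorem Hyp.main (H : Hyp K) :
    (∃ (F : Type) (_ : Field F) (_ : Fintype F), CharP F 2 ∧ 4 ≤ Fintype.card F ∧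
      Nonempty (G ≃* Matrix.SpecialLinearGroup (Fin 2) F) ∧
      Nonempty (G ≃* Matrix.ProjectiveSpecialLinearGroup (Fin 2) F)) ∨ Cfsg.IsSuzuki G := by
  by_cases hab : ∀ x ∈ K, ∀ y ∈ K, x * y = y * x
  · exact Or.inl (H.psl hab)
  · push Not at hab
    obtain ⟨x, hx, y, hy, hxy⟩ := hab
    haveI := H.simple
    refine Or.inr (S0347.result H.zassenhaus (base K) K
      (fun k hk => (smul_base_iff K k).mpr (le_normalizer hk)) ?_ H.isPGroup
      ⟨⟨x, hx⟩, ⟨y, hy⟩, fun e => hxy (congrArg Subtype.val e)⟩ ?_)
    · refine ⟨fun k hk g => ?_⟩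
      exact (mem_normalizer_iff.mp ((smul_base_iff K g).mp g.2) k).mp hk
    · intro c c' hc hc'
      obtain ⟨k, hk, e⟩ := H.exists_smul_eq hc hc'
      refine ⟨⟨k, hk⟩, e, fun l hl => Subtype.ext (inv_mul_eq_one.mp
        (H.pair_disj hc (mul_mem (inv_mem hk) l.2) ?_)).symm⟩
      rw [mul_smul, inv_smul_eq_iff]
      exact hl.trans e.symm

end Cfsg.Agent.SuzukiTI
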