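import Cfsg.Agent.InvAb.Config
import Cfsg.Agent.Invol.Pair

/-!
# A nilpotent-type TI subgroup of even order equal to its involution centralisers

The configuration of Suzuki: a subgroup `K` with at least two involutions, not normal, which
contains the centraliser of each of its nontrivial elements and is the centraliser of each of its
involutions.  Elementary consequences.
-/

set_option autoImplicit false

open Subgroup MulAction
open Cfsg.Agent.Fg24.CT (Inv2)

namespace Cfsg.Agent.SuzukiTI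

universe u

variable {G : Type u} [Group G]

/-- The standing hypotheses. -/
structure Hyp (K : Subgroup G) : Prop where
  notNormal : normalizer (K : Set G) ≠ ⊤
  two : ∃ a b : G, a ∈ K ∧ b ∈ K ∧ Inv2 a ∧ Inv2 b ∧ a ≠ b
  cent_inv : ∀ t ∈ K, Inv2 t → centralizer ({t} : Set G) = K
  cent_le : ∀ y ∈ K, y ≠ 1 → centralizer ({y} : Set G) ≤ K

theorem orderOf_inv2 {t : G} (h : Inv2 t) : orderOf t = 2 :=
  orderOf_eq_prime (by rw [pow_two]; exact h.2) h.1

theorem inv2_of_orderOf {t : G} (h : orderOf t = 2) : Inv2 t :=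
  ⟨fun e => by rw [e, orderOf_one] at h; omega, by rw [← pow_two, ← h]; exact pow_orderOf_eq_one t⟩

/-- An element of prime order normalising a subgroup of order divisible by that prime centralises
one of its non-trivial elements. -/
theorem exists_commute_of_prime [Finite G] (K : Subgroup G) {x : G}
    (hx : x ∈ normalizer (K : Set G)) {p : ℕ} (hp : p.Prime) (ho : orderOf x = p)
    (hd : p ∣ Nat.card K) : ∃ k ∈ K, k ≠ 1 ∧ Commute k x := by
  classical
  have := Fintype.ofFinite K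
  haveI := Fact.mk hp
  have h1 : ∀ k : G, k ∈ K → x * k * x⁻¹ ∈ K := fun k hk => (mem_normalizer_iff.mp hx k).mp hk
  have h2 : ∀ k : G, k ∈ K → x⁻¹ * k * x ∈ K := fun k hk => by
    have := (mem_normalizer_iff.mp (inv_mem hx) k).mp hk
    rwa [inv_inv] at this
  let σ : Equiv.Perm K :=
    { toFun := fun k => ⟨x * k * x⁻¹, h1 _ k.2⟩
      invFun := fun k => ⟨x⁻¹ * k * x, h2 _ k.2⟩
      left_inv := fun k => Subtype.ext (by simp [mul_assoc])
      right_inv := fun k => Subtype.ext (by simp [mul_assoc]) }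
  have hpow : ∀ (n : ℕ) (k : K), (((σ ^ n) k : K) : G) = x ^ n * k * (x ^ n)⁻¹ := by
    intro n
    induction n with
    | zero => intro k; simp
    | succ n ih =>
      intro k
      rw [pow_succ', Equiv.Perm.mul_apply, pow_succ']
      show x * ((σ ^ n) k : K) * x⁻¹ = _
      rw [ih, mul_inv_rev]; group
  have hσ : σ ^ p ^ 1 = 1 := by
    refine Equiv.ext fun k => Subtype.ext ?_
    rw [hpow, pow_one, ← ho, pow_orderOf_eq_one]; simp
  have hfix : σ 1 = 1 := Subtype.ext (by show x * 1 * x⁻¹ = 1; simp)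
  obtain ⟨b, hb, hb1⟩ := Equiv.Perm.exists_fixed_point_of_prime'
    (by rwa [← Nat.card_eq_fintype_card]) hσ hfix
  refine ⟨b, b.2, fun e => hb1 (Subtype.ext e), ?_⟩
  have h3 : x * (b : G) * x⁻¹ = b := congrArg Subtype.val hb
  exact (mul_inv_eq_iff_eq_mul.mp h3).symm

variable {K : Subgroup G} (H : Hyp K)
include H

theorem Hyp.exists_invol : ∃ a ∈ K, Inv2 a :=
  let ⟨a, _, ha, _, ha2, _⟩ := H.two
  ⟨a, ha, ha2⟩

theorem Hyp.commute {a y : G} (ha : a ∈ K) (ha2 : Inv2 a) (hy : y ∈ K) : Commute y a := by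
  rw [← H.cent_inv a ha ha2, mem_centralizer_singleton_iff] at hy
  exact hy

theorem Hyp.mem_of_commute {a y : G} (ha : a ∈ K) (ha2 : Inv2 a) (hy : Commute y a) : y ∈ K := by
  rw [← H.cent_inv a ha ha2, mem_centralizer_singleton_iff]
  exact hy

theorem Hyp.le_of_commute {k y : G} (hk : k ∈ K) (hk1 : k ≠ 1) (hy : Commute y k) : y ∈ K :=
  H.cent_le k hk hk1 (mem_centralizer_singleton_iff.mpr hy)

/-- `K` is a TI subgroup. -/
theorem Hyp.ti {g y : G} (hy : y ∈ K) (hy1 : y ≠ 1) (h : g * y * g⁻¹ ∈ K) :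
    g ∈ normalizer (K : Set G) := by
  obtain ⟨a, ha, ha2⟩ := H.exists_invol
  have hc : Commute (g * a * g⁻¹) (g * y * g⁻¹) := (Commute.conj_iff _).mpr (H.commute ha ha2 hy).symm
  have ha' : g * a * g⁻¹ ∈ K := H.le_of_commute h (fun e => hy1 (conj_eq_one_iff.mp e)) hc
  refine mem_normalizer_iff.mpr fun k => ⟨fun hk => ?_, fun hk => ?_⟩
  · exact H.mem_of_commute ha' (ha2.conj g) ((Commute.conj_iff _).mpr (H.commute ha ha2 hk))
  · exact H.mem_of_commute ha ha2 ((Commute.conj_iff _).mp (H.commute ha' (ha2.conj g) hk))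

variable [Finite G]

theorem Hyp.mem_K_of_prime {x : G} (hx : x ∈ normalizer (K : Set G)) {p : ℕ} (hp : p.Prime)
    (ho : orderOf x = p) (hd : p ∣ Nat.card K) : x ∈ K := by
  obtain ⟨k, hk, hk1, hc⟩ := exists_commute_of_prime K hx hp ho hd
  exact H.le_of_commute hk hk1 hc.symm

theorem Hyp.two_dvd : 2 ∣ Nat.card K := by
  obtain ⟨a, ha, ha2⟩ := H.exists_invol
  rw [← orderOf_inv2 ha2]
  exact Subgroup.orderOf_dvd_natCard K ha

theorem Hyp.invol_mem {t : G} (ht : t ∈ normalizer (K : Set G)) (ht2 : Inv2 t) : t ∈ K :=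
  H.mem_K_of_prime ht Nat.prime_two (orderOf_inv2 ht2) H.two_dvd

/-- `K` meets the other conjugates of its normaliser trivially. -/
theorem Hyp.disj {g y : G} (hy : y ∈ K) (hg : g ∉ normalizer (K : Set G))
    (h : g⁻¹ * y * g ∈ normalizer (K : Set G)) : y = 1 := by
  by_contra hy1
  have hne : orderOf y ≠ 1 := fun e => hy1 (orderOf_eq_one_iff.mp e)
  obtain ⟨p, hp, hpd⟩ := Nat.exists_prime_and_dvd hne
  have ho : orderOf (y ^ (orderOf y / p)) = p :=
    orderOf_pow_orderOf_div (orderOf_pos y).ne' hpd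
  set z := y ^ (orderOf y / p) with hz
  have hzK : z ∈ K := pow_mem hy _
  have hconj : g⁻¹ * z * g = (g⁻¹ * y * g) ^ (orderOf y / p) := by
    rw [hz]
    have := (conj_pow (i := orderOf y / p) (a := g⁻¹) (b := y))
    rw [inv_inv] at this
    exact this.symm
  have hoz : orderOf (g⁻¹ * z * g) = p := by
    rw [← ho, show g⁻¹ * z * g = MulAut.conj g⁻¹ z by simp, MulEquiv.orderOf_eq]
  have h1 : g⁻¹ * z * g ∈ K := H.mem_K_of_prime (hconj ▸ pow_mem h _) hp hoz
    (ho ▸ Subgroup.orderOf_dvd_natCard K hzK)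
  refine hg ?_
  have h2 := H.ti (g := g⁻¹) hzK (fun e => by rw [e, orderOf_one] at ho; exact hp.one_lt.ne ho)
    (by rwa [inv_inv])
  exact inv_mem_iff.mp h2

theorem Hyp.isConj_outside {a s : G} (ha : a ∈ K) (ha2 : Inv2 a) (hs : Inv2 s)
    (hsM : s ∉ normalizer (K : Set G)) : IsConj a s := by
  set c := a * s with hc
  have hac : a * c * a = c⁻¹ := by
    rw [hc, mul_inv_rev, hs.inv_eq, ha2.inv_eq, ← mul_assoc a a s, ha2.2, one_mul]
  rcases Nat.even_or_odd' (orderOf c) with ⟨m, hm | hm⟩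
  · exfalso
    have hpos := orderOf_pos c
    have hu1 : c ^ m ≠ 1 := pow_ne_one_of_lt_orderOf (by omega) (by omega)
    have hu2 : c ^ m * c ^ m = 1 := by rw [← pow_add, ← two_mul, ← hm, pow_orderOf_eq_one]
    have hua : Commute (c ^ m) a := by
      have h := conj_pow (a := a) (b := c) (i := m)
      rw [ha2.inv_eq, hac, inv_pow, inv_eq_of_mul_eq_one_right hu2] at h
      calc c ^ m * a = a * c ^ m * a * a := by rw [← h]
        _ = a * c ^ m := by rw [mul_assoc (a * c ^ m) a a, ha2.2, mul_one]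
    have hus : Commute (c ^ m) s := by
      have h1 : s = a * c := by rw [hc, ← mul_assoc, ha2.2, one_mul]
      rw [h1]
      exact hua.mul_right ((Commute.refl c).pow_left m)
    have huK : c ^ m ∈ K := H.mem_of_commute ha ha2 hua
    exact hsM (le_normalizer (H.mem_of_commute huK ⟨hu1, hu2⟩ hus.symm))
  · exact Invol.isConj_of_odd (orderOf_inv2 ha2) (orderOf_inv2 hs) ⟨m, hm⟩

theorem Hyp.trans_invol {a b : G} (ha : a ∈ K) (ha2 : Inv2 a) (hb : b ∈ K) (hb2 : Inv2 b) :
    ∃ m ∈ normalizer (K : Set G), m * a * m⁻¹ = b := by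
  obtain ⟨g, hg⟩ : ∃ g, g ∉ normalizer (K : Set G) := by
    by_contra h
    push Not at h
    exact H.notNormal (eq_top_iff.mpr fun x _ => h x)
  have hs : g * a * g⁻¹ ∉ normalizer (K : Set G) := fun h =>
    hg (H.ti ha ha2.1 (H.invol_mem h (ha2.conj g)))
  obtain ⟨c, hc⟩ := isConj_iff.mp ((H.isConj_outside ha ha2 (ha2.conj g) hs).trans
    (H.isConj_outside hb hb2 (ha2.conj g) hs).symm)
  exact ⟨c, H.ti ha ha2.1 (hc.symm ▸ hb), hc⟩

/-- All involutions are conjugate. -/
theorem Hyp.isConj_all {a t : G} (ha : a ∈ K) (ha2 : Inv2 a) (ht : Inv2 t) : IsConj a t := by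
  by_cases h : t ∈ normalizer (K : Set G)
  · obtain ⟨m, -, hm⟩ := H.trans_invol ha ha2 (H.invol_mem h ht) ht
    exact isConj_iff.mpr ⟨m, hm⟩
  · exact H.isConj_outside ha ha2 ht h

end Cfsg.Agent.SuzukiTI
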