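import Cfsg.Agent.SuzukiTI.Setting

/-!
# Counting involutions in the cosets of the normaliser

Every coset outside the normaliser contains exactly as many involutions as `K` does, and the
corresponding two-point stabiliser is inverted by each of them.
-/

set_option autoImplicit false

open Subgroup MulAction
open Cfsg.Agent.Fg24.CT (Inv2 pair mem_pair)

namespace Cfsg.Agent.SuzukiTI

universe u

variable {G : Type u} [Group G]

/-- The points. -/
abbrev Pt (K : Subgroup G) : Type u := G ⧸ normalizer (K : Set G)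

/-- The base point. -/
abbrev base (K : Subgroup G) : Pt K := ((1 : G) : G ⧸ normalizer (K : Set G))

/-- The number of involutions of `K`. -/
noncomputable def numInv (K : Subgroup G) : ℕ := Nat.card {t : G // t ∈ K ∧ Inv2 t}

theorem smul_base (K : Subgroup G) (g : G) : g • base K = (g : Pt K) := by
  show ((g * 1 : G) : G ⧸ normalizer (K : Set G)) = _
  rw [mul_one]

theorem smul_base_iff (K : Subgroup G) (g : G) :
    g • base K = base K ↔ g ∈ normalizer (K : Set G) := by
  rw [smul_base]
  constructor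
  · intro h
    have := QuotientGroup.eq.mp h
    rwa [mul_one, inv_mem_iff] at this
  · intro h
    exact QuotientGroup.eq.mpr (by rwa [mul_one, inv_mem_iff])

/-- Orbit counting for conjugation. -/
theorem card_conj_mul [Finite G] (M : Subgroup G) (a : G) {P : G → Prop}
    (hP : ∀ t, P t ↔ ∃ m ∈ M, m * a * m⁻¹ = t) :
    Nat.card {t // P t} * Nat.card (M ⊓ centralizer ({a} : Set G) : Subgroup G) = Nat.card M := by
  classical
  have := Fintype.ofFinite {t // P t}
  let f : M → {t // P t} := fun m => ⟨m * a * (m : G)⁻¹, (hP _).mpr ⟨m, m.2, rfl⟩⟩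
  have hfib : ∀ t, Nat.card {m // f m = t} =
      Nat.card (M ⊓ centralizer ({a} : Set G) : Subgroup G) := by
    intro t
    obtain ⟨m₀, hm₀, he⟩ := (hP _).mp t.2
    have hmem : ∀ m : {m // f m = t}, m₀⁻¹ * (m.1 : G) ∈ M ⊓ centralizer ({a} : Set G) := by
      intro m
      refine mem_inf.mpr ⟨mul_mem (inv_mem hm₀) m.1.2, mem_centralizer_singleton_iff.mpr ?_⟩
      have h1 : (m.1 : G) * a * (m.1 : G)⁻¹ = m₀ * a * m₀⁻¹ :=
        (congrArg Subtype.val m.2).trans he.symm
      calc m₀⁻¹ * (m.1 : G) * a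
          = m₀⁻¹ * ((m.1 : G) * a * (m.1 : G)⁻¹) * m.1 := by group
        _ = a * (m₀⁻¹ * m.1) := by rw [h1]; group
    have hback : ∀ c : (M ⊓ centralizer ({a} : Set G) : Subgroup G),
        f ⟨m₀ * c, mul_mem hm₀ (mem_inf.mp c.2).1⟩ = t := by
      intro c
      refine Subtype.ext ?_
      show m₀ * (c : G) * a * (m₀ * (c : G))⁻¹ = t.1
      have hc : (c : G) * a = a * c := mem_centralizer_singleton_iff.mp (mem_inf.mp c.2).2
      rw [← he, mul_inv_rev, mul_assoc m₀, hc]
      group
    exact Nat.card_congr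
      { toFun := fun m => ⟨m₀⁻¹ * (m.1 : G), hmem m⟩
        invFun := fun c => ⟨⟨m₀ * c, mul_mem hm₀ (mem_inf.mp c.2).1⟩, hback c⟩
        left_inv := fun m => Subtype.ext (Subtype.ext (by simp))
        right_inv := fun c => Subtype.ext (by simp) }
  rw [← Nat.card_congr (Equiv.sigmaFiberEquiv f), Nat.card_sigma]
  simp only [hfib, Finset.sum_const, smul_eq_mul, Finset.card_univ, ← Nat.card_eq_fintype_card]

variable [Finite G] {K : Subgroup G} (H : Hyp K)
include H

theorem Hyp.numInv_two : 2 ≤ numInv K := by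
  obtain ⟨a, b, ha, hb, ha2, hb2, hab⟩ := H.two
  have : Nontrivial {t : G // t ∈ K ∧ Inv2 t} :=
    ⟨⟨a, ha, ha2⟩, ⟨b, hb, hb2⟩, fun e => hab (congrArg Subtype.val e)⟩
  exact Finite.one_lt_card

theorem Hyp.card_normalizer :
    numInv K * Nat.card K = Nat.card (normalizer (K : Set G)) := by
  obtain ⟨a, ha, ha2⟩ := H.exists_invol
  have h := card_conj_mul (normalizer (K : Set G)) a (P := fun t => t ∈ K ∧ Inv2 t) fun t =>
    ⟨fun h => H.trans_invol ha ha2 h.1 h.2, fun ⟨m, hm, e⟩ =>
      e ▸ ⟨(mem_normalizer_iff.mp hm a).mp ha, ha2.conj m⟩⟩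
  rwa [H.cent_inv a ha ha2, inf_eq_right.mpr le_normalizer] at h

theorem Hyp.card_invols :
    Nat.card {t : G // Inv2 t} = numInv K * Nat.card (Pt K) := by
  obtain ⟨a, ha, ha2⟩ := H.exists_invol
  have h := card_conj_mul (⊤ : Subgroup G) a (P := fun t => Inv2 t) fun t =>
    ⟨fun h => by
      obtain ⟨c, hc⟩ := isConj_iff.mp (H.isConj_all ha ha2 h)
      exact ⟨c, mem_top c, hc⟩, fun ⟨m, _, e⟩ => e ▸ ha2.conj m⟩
  rw [top_inf_eq, H.cent_inv a ha ha2, card_top] at h
  have h2 := (normalizer (K : Set G)).card_mul_index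
  rw [← H.card_normalizer, Subgroup.index_eq_card, ← h] at h2
  refine Nat.eq_of_mul_eq_mul_right (Nat.card_pos (α := K)) ?_
  rw [← h2]; ring

/-- The two-point stabiliser meets `K` trivially. -/
theorem Hyp.pair_disj {c : Pt K} (hc : c ≠ base K) {y : G} (hy : y ∈ K)
    (hfix : y • c = c) : y = 1 := by
  induction c using QuotientGroup.induction_on with | _ g => ?_
  have hg : g ∉ normalizer (K : Set G) := fun h =>
    hc (by rw [← smul_base, (smul_base_iff K g).mpr h])
  refine H.disj hy hg ?_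
  rw [← smul_base_iff, mul_smul, mul_smul, smul_base, hfix, ← smul_base, inv_smul_smul]

theorem Hyp.card_pair_le {c : Pt K} (hc : c ≠ base K) :
    Nat.card (pair G (base K) c) ≤ numInv K := by
  obtain ⟨a, ha, ha2⟩ := H.exists_invol
  refine Nat.card_le_card_of_injective
    (fun d : pair G (base K) c => (⟨(d : G) * a * (d : G)⁻¹,
      (mem_normalizer_iff.mp ((smul_base_iff K _).mp d.2.1) a).mp ha, ha2.conj _⟩ :
        {t : G // t ∈ K ∧ Inv2 t})) fun d d' e => ?_
  have e' : (d : G) * a * (d : G)⁻¹ = (d' : G) * a * (d' : G)⁻¹ := congrArg Subtype.val e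
  have h1 : (d' : G)⁻¹ * d ∈ K := by
    refine H.mem_of_commute ha ha2 ?_
    calc (d' : G)⁻¹ * d * a = (d' : G)⁻¹ * ((d : G) * a * (d : G)⁻¹) * d := by group
      _ = a * ((d' : G)⁻¹ * d) := by rw [e']; group
  have h2 := mul_mem (inv_mem d'.2) d.2
  exact Subtype.ext (inv_mul_eq_one.mp (H.pair_disj hc h1 h2.2)).symm

/-- The involutions lying in the coset `c`. -/
def coInv (K : Subgroup G) (c : Pt K) : Set G := {t | Inv2 t ∧ (t : Pt K) = c}

omit [Finite G] H in
theorem coInv_smul {c : Pt K} {t : G} (ht : t ∈ coInv K c) :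
    t • base K = c ∧ t • c = base K := by
  have h1 : t • base K = c := by rw [smul_base]; exact ht.2
  exact ⟨h1, by rw [← h1, smul_smul, ht.1.2, one_smul]⟩

omit [Finite G] H in
theorem coInv_diff {c : Pt K} {t s : G} (ht : t ∈ coInv K c) (hs : s ∈ coInv K c) :
    t * s ∈ pair G (base K) c ∧ t * (t * s) * t = (t * s)⁻¹ := by
  refine ⟨⟨?_, ?_⟩, ?_⟩
  · show (t * s) • base K = base K
    rw [mul_smul, (coInv_smul hs).1, (coInv_smul ht).2]
  · show (t * s) • c = c
    rw [mul_smul, (coInv_smul hs).2, (coInv_smul ht).1]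
  · rw [mul_inv_rev, ht.1.inv_eq, hs.1.inv_eq, ← mul_assoc t t s, ht.1.2, one_mul]

theorem Hyp.card_coInv_le (c : Pt K) : Nat.card (coInv K c) ≤ numInv K := by
  by_cases hc : c = base K
  · refine Nat.card_le_card_of_injective
      (fun t => (⟨t.1, H.invol_mem ((smul_base_iff K _).mp ((coInv_smul t.2).1.trans hc)) t.2.1,
        t.2.1⟩ : {t : G // t ∈ K ∧ Inv2 t})) fun t s e => ?_
    exact Subtype.ext (congrArg Subtype.val e :)
  · rcases isEmpty_or_nonempty (coInv K c) with h | ⟨⟨t, ht⟩⟩
    · simp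
    · refine le_trans (Nat.card_le_card_of_injective
        (fun s : coInv K c => (⟨t * s, (coInv_diff ht s.2).1⟩ : pair G (base K) c))
        fun s s' e => ?_) (H.card_pair_le hc)
      exact Subtype.ext (mul_left_cancel (congrArg Subtype.val e :))

theorem Hyp.card_coInv (c : Pt K) : Nat.card (coInv K c) = numInv K := by
  classical
  have := Fintype.ofFinite (Pt K)
  have hsum : ∑ d : Pt K, Nat.card (coInv K d) = ∑ _d : Pt K, numInv K := by
    rw [Finset.sum_const, smul_eq_mul, Finset.card_univ, ← Nat.card_eq_fintype_card,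
      mul_comm, ← H.card_invols, ← Nat.card_sigma]
    exact Nat.card_congr
      { toFun := fun x => ⟨x.2.1, x.2.2.1⟩
        invFun := fun t => ⟨(t.1 : Pt K), t.1, t.2, rfl⟩
        left_inv := fun ⟨d, t, ht, e⟩ => by subst e; rfl
        right_inv := fun t => rfl }
  exact (Finset.sum_eq_sum_iff_of_le fun d _ => H.card_coInv_le d).mp hsum c (Finset.mem_univ c)

theorem Hyp.exists_coInv (c : Pt K) : ∃ t, t ∈ coInv K c := by
  by_contra h
  push Not at h
  haveI : IsEmpty (coInv K c) := ⟨fun x => h _ x.2⟩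
  have := H.card_coInv c
  have := H.numInv_two
  simp at *
  omega

theorem Hyp.card_pair {c : Pt K} (hc : c ≠ base K) :
    Nat.card (pair G (base K) c) = numInv K := by
  obtain ⟨t, ht⟩ := H.exists_coInv c
  refine le_antisymm (H.card_pair_le hc) ?_
  rw [← H.card_coInv c]
  exact Nat.card_le_card_of_injective
    (fun s : coInv K c => (⟨t * s, (coInv_diff ht s.2).1⟩ : pair G (base K) c))
    fun s s' e => Subtype.ext (mul_left_cancel (congrArg Subtype.val e :))

/-- The two-point stabiliser is inverted. -/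
theorem Hyp.inverts {c : Pt K} (hc : c ≠ base K) {t d : G} (ht : t ∈ coInv K c)
    (hd : d ∈ pair G (base K) c) : t * d * t = d⁻¹ := by
  let f := fun s : coInv K c => (⟨t * s, (coInv_diff ht s.2).1⟩ : pair G (base K) c)
  have hf : Function.Injective f :=
    fun s s' e => Subtype.ext (mul_left_cancel (congrArg Subtype.val e :))
  obtain ⟨s, hs⟩ := (hf.bijective_of_nat_card_le (by rw [H.card_coInv, H.card_pair hc])).2 ⟨d, hd⟩
  rw [← show t * s.1 = d from congrArg Subtype.val hs]
  exact (coInv_diff ht s.2).2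

theorem Hyp.pair_comm {c : Pt K} (hc : c ≠ base K) {d e : G}
    (hd : d ∈ pair G (base K) c) (he : e ∈ pair G (base K) c) : Commute d e := by
  obtain ⟨t, ht⟩ := H.exists_coInv c
  have h := H.inverts hc ht (mul_mem hd he)
  have h1 : t * (d * e) * t = t * d * t * (t * e * t) := by
    calc t * (d * e) * t = t * d * (t * t) * e * t := by rw [ht.1.2]; group
      _ = _ := by group
  rw [h1, H.inverts hc ht hd, H.inverts hc ht he, mul_inv_rev] at h
  have h2 := congrArg Inv.inv h
  rw [mul_inv_rev, inv_inv, inv_inv, mul_inv_rev, inv_inv, inv_inv] at h2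
  exact h2.symm

end Cfsg.Agent.SuzukiTI
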