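import Cfsg.Agent.SuzukiTI.Count
import Cfsg.Agent.S0338

/-!
# The action on the cosets of the normaliser is a Zassenhaus action

A two-point stabiliser fixes only two points, its conjugates under `K` exhaust the two-point
stabilisers at the base point, hence `K` is regular on the other points.
-/

set_option autoImplicit false

open Subgroup MulAction
open Cfsg.Agent.Fg24.CT (Inv2 pair mem_pair)

namespace Cfsg.Agent.SuzukiTI

universe u

variable {G : Type u} [Group G] [Finite G] {K : Subgroup G} (H : Hyp K)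
include H

theorem Hyp.not_mem_K {c : Pt K} (hc : c ≠ base K) {d : G} (hd : d ∈ pair G (base K) c)
    (hd1 : d ≠ 1) : d ∉ K :=
  fun h => hd1 (H.pair_disj hc h hd.2)

theorem Hyp.exists_pair_ne {c : Pt K} (hc : c ≠ base K) : ∃ d ∈ pair G (base K) c, d ≠ 1 := by
  by_contra h
  push Not at h
  have h1 : pair G (base K) c = ⊥ := (Subgroup.eq_bot_iff_forall _).mpr h
  have h2 := H.card_pair hc
  have := H.numInv_two
  rw [h1, Subgroup.card_bot] at h2
  omega

/-- The normaliser is `K` times a two-point stabiliser. -/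
theorem Hyp.decomp {c : Pt K} (hc : c ≠ base K) {m : G} (hm : m ∈ normalizer (K : Set G)) :
    ∃ d ∈ pair G (base K) c, d⁻¹ * m ∈ K := by
  obtain ⟨a, ha, ha2⟩ := H.exists_invol
  let f : pair G (base K) c → {t : G // t ∈ K ∧ Inv2 t} := fun d =>
    ⟨(d : G) * a * (d : G)⁻¹,
      (mem_normalizer_iff.mp ((smul_base_iff K _).mp d.2.1) a).mp ha, ha2.conj _⟩
  have hf : Function.Injective f := fun d d' e => by
    have e' : (d : G) * a * (d : G)⁻¹ = (d' : G) * a * (d' : G)⁻¹ := congrArg Subtype.val e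
    have h1 : (d' : G)⁻¹ * d ∈ K := by
      refine H.mem_of_commute ha ha2 ?_
      calc (d' : G)⁻¹ * d * a = (d' : G)⁻¹ * ((d : G) * a * (d : G)⁻¹) * d := by group
        _ = a * ((d' : G)⁻¹ * d) := by rw [e']; group
    exact Subtype.ext (inv_mul_eq_one.mp (H.pair_disj hc h1 (mul_mem (inv_mem d'.2) d.2).2)).symm
  obtain ⟨d, hd⟩ := (hf.bijective_of_nat_card_le (by rw [H.card_pair hc]; rfl)).2
    ⟨m * a * m⁻¹, (mem_normalizer_iff.mp hm a).mp ha, ha2.conj m⟩
  refine ⟨d, d.2, H.mem_of_commute ha ha2 ?_⟩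
  have e' : (d : G) * a * (d : G)⁻¹ = m * a * m⁻¹ := congrArg Subtype.val hd
  calc (d : G)⁻¹ * m * a = (d : G)⁻¹ * (m * a * m⁻¹) * m := by group
    _ = a * ((d : G)⁻¹ * m) := by rw [← e']; group

theorem Hyp.mem_pair_of_commute {c : Pt K} (hc : c ≠ base K) {d : G}
    (hd : d ∈ pair G (base K) c) (hd1 : d ≠ 1) {m : G} (hm : m ∈ normalizer (K : Set G))
    (h : Commute m d) : m ∈ pair G (base K) c := by
  obtain ⟨e, he, hk⟩ := H.decomp hc hm
  by_cases h1 : e⁻¹ * m = 1
  · rwa [← inv_mul_eq_one.mp h1]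
  · exact (H.not_mem_K hc hd hd1
      (H.le_of_commute hk h1 (((H.pair_comm hc he hd).inv_left).mul_left h).symm)).elim

/-- The two-point stabilisers at the base point separate the points. -/
theorem Hyp.pair_inj {c c' : Pt K} (hc : c ≠ base K) (hc' : c' ≠ base K)
    (h : pair G (base K) c ≤ pair G (base K) c') : c' = c := by
  have heq : pair G (base K) c = pair G (base K) c' :=
    Subgroup.eq_of_le_of_card_ge h (by rw [H.card_pair hc, H.card_pair hc'])
  obtain ⟨t, ht⟩ := H.exists_coInv c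
  obtain ⟨t', ht'⟩ := H.exists_coInv c'
  obtain ⟨d, hd, hd1⟩ := H.exists_pair_ne hc
  set x := t * t' with hx
  have hcomm : ∀ e ∈ pair G (base K) c, Commute x e := by
    intro e he
    have h1 : t' * e * t' = e⁻¹ := H.inverts hc' ht' (heq ▸ he)
    have h2 : t * e * t = e⁻¹ := H.inverts hc ht he
    have h3 : t * e⁻¹ * t = e := by
      have := congrArg Inv.inv h2
      rw [mul_inv_rev, mul_inv_rev, ht.1.inv_eq, inv_inv, ← mul_assoc] at this
      exact this
    have h4 : x * e * x⁻¹ = e := by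
      rw [hx, mul_inv_rev, ht.1.inv_eq, ht'.1.inv_eq,
        show t * t' * e * (t' * t) = t * (t' * e * t') * t by group, h1, h3]
    exact mul_inv_eq_iff_eq_mul.mp h4
  have hc'x : c' = t • x • base K := by
    rw [hx, ← mul_smul, ← mul_assoc, ht.1.2, one_mul, (coInv_smul ht').1]
  by_cases hxM : x ∈ normalizer (K : Set G)
  · rw [hc'x, (smul_base_iff K x).mpr hxM, (coInv_smul ht).1]
  · exfalso
    set c'' := x • base K with hc''
    have hne : c'' ≠ base K := fun e => hxM ((smul_base_iff K x).mp e)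
    have hsub : pair G (base K) c ≤ pair G (base K) c'' := fun e he => by
      refine ⟨he.1, ?_⟩
      show e • x • base K = x • base K
      rw [← mul_smul, ← (hcomm e he).eq, mul_smul]
      exact congrArg (x • ·) he.1
    obtain ⟨t'', ht''⟩ := H.exists_coInv c''
    set m := t'' * x with hm
    have hmM : m ∈ normalizer (K : Set G) :=
      (smul_base_iff K m).mp (by rw [hm, mul_smul, ← hc'', (coInv_smul ht'').2])
    have hinv : m * d * m⁻¹ = d⁻¹ := by
      rw [hm, mul_inv_rev, show t'' * x * d * (x⁻¹ * t''⁻¹) = t'' * (x * d * x⁻¹) * t''⁻¹ by group,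
        (hcomm d hd).eq, mul_inv_cancel_right, ht''.1.inv_eq]
      exact H.inverts hne ht'' (hsub hd)
    obtain ⟨e, he, hk⟩ := H.decomp hc hmM
    set k := e⁻¹ * m with hkdef
    have hmk : m = e * k := by rw [hkdef]; group
    have hkd : k * d * k⁻¹ = d⁻¹ := by
      calc k * d * k⁻¹ = e⁻¹ * (m * d * m⁻¹) * e := by rw [hkdef]; group
        _ = d⁻¹ := by
          rw [hinv]
          have := ((H.pair_comm hc he hd).inv_right).inv_left.eq
          rw [this]; group
    have h5 : d⁻¹ * d⁻¹ ∈ K := by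
      have hdM : d ∈ normalizer (K : Set G) := (smul_base_iff K d).mp hd.1
      have h6 : k * (d * k⁻¹ * d⁻¹) ∈ K :=
        mul_mem hk ((mem_normalizer_iff.mp hdM k⁻¹).mp (inv_mem hk))
      have h7 : k * (d * k⁻¹ * d⁻¹) = d⁻¹ * d⁻¹ := by
        rw [← mul_assoc, ← mul_assoc, hkd]
      rwa [h7] at h6
    have hsq : d⁻¹ * d⁻¹ = 1 := H.pair_disj hc h5 (mul_mem (inv_mem hd) (inv_mem hd)).2
    have hd2 : Inv2 d := ⟨hd1, by
      have := congrArg Inv.inv hsq
      rwa [mul_inv_rev, inv_inv, inv_one] at this⟩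
    exact H.not_mem_K hc hd hd1 (H.invol_mem ((smul_base_iff K d).mp hd.1) hd2)

/-- `K` is transitive on the other points. -/
theorem Hyp.exists_smul_eq {c c' : Pt K} (hc : c ≠ base K) (hc' : c' ≠ base K) :
    ∃ k ∈ K, k • c = c' := by
  obtain ⟨d, hd, hd1⟩ := H.exists_pair_ne hc
  have hdM : d ∈ normalizer (K : Set G) := (smul_base_iff K d).mp hd.1
  obtain ⟨d', hd', hk'⟩ := H.decomp hc' hdM
  have hd'1 : d' ≠ 1 := fun e => by
    rw [e, inv_one, one_mul] at hk'
    exact H.not_mem_K hc hd hd1 hk'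
  let f : K → K := fun k => ⟨d⁻¹ * ((k : G) * d * (k : G)⁻¹), by
    rw [show d⁻¹ * ((k : G) * d * (k : G)⁻¹) = d⁻¹ * k * d⁻¹⁻¹ * (k : G)⁻¹ by group]
    exact mul_mem ((mem_normalizer_iff.mp (inv_mem hdM) _).mp k.2) (inv_mem k.2)⟩
  have hf : Function.Injective f := fun k l e => by
    have e' : (k : G) * d * (k : G)⁻¹ = (l : G) * d * (l : G)⁻¹ :=
      mul_left_cancel (congrArg Subtype.val e :)
    have h1 : Commute ((l : G)⁻¹ * k) d := by
      show (l : G)⁻¹ * k * d = d * ((l : G)⁻¹ * k)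
      calc (l : G)⁻¹ * k * d = (l : G)⁻¹ * ((k : G) * d * (k : G)⁻¹) * k := by group
        _ = _ := by rw [e']; group
    by_contra hne
    exact H.not_mem_K hc hd hd1 (H.le_of_commute (mul_mem (inv_mem l.2) k.2)
      (fun e0 => hne (Subtype.ext (inv_mul_eq_one.mp e0)).symm) h1.symm)
  obtain ⟨k, hk⟩ := (Finite.injective_iff_surjective.mp hf) ⟨d⁻¹ * d', by
    have h1 := inv_mem hk'
    rwa [mul_inv_rev, inv_inv] at h1⟩
  have hkd : (k : G) * d * (k : G)⁻¹ = d' := mul_left_cancel (congrArg Subtype.val hk :)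
  refine ⟨k, k.2, ?_⟩
  have hbase : (k : G) • base K = base K := (smul_base_iff K _).mpr (le_normalizer k.2)
  have hcc : (k : G) • c ≠ base K := fun e => hc (MulAction.injective (k : G) (e.trans hbase.symm))
  refine H.pair_inj hc' hcc ?_
  intro x hx
  refine ⟨hx.1, ?_⟩
  show x • (k : G) • c = (k : G) • c
  have hy : (k : G)⁻¹ * x * k ∈ pair G (base K) c := by
    refine H.mem_pair_of_commute hc hd hd1
      (mul_mem (mul_mem (inv_mem (le_normalizer k.2)) ((smul_base_iff K x).mp hx.1))
        (le_normalizer k.2)) ?_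
    have h1 : Commute x d' := H.pair_comm hc' hx hd'
    have h2 : (k : G)⁻¹ * d' * (k : G)⁻¹⁻¹ = d := by rw [← hkd]; group
    have h3 := (Commute.conj_iff (k : G)⁻¹).mpr h1
    rwa [h2, inv_inv] at h3
  have h4 : ((k : G)⁻¹ * x * k) • c = c := hy.2
  rw [mul_smul, mul_smul, inv_smul_eq_iff] at h4
  exact h4

/-- The number of points. -/
theorem Hyp.card_pt : Nat.card (Pt K) = Nat.card K + 1 := by
  classical
  obtain ⟨g, hg⟩ : ∃ g, g ∉ normalizer (K : Set G) := by
    by_contra h
    push Not at h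
    exact H.notNormal (eq_top_iff.mpr fun x _ => h x)
  have hc : g • base K ≠ base K := fun e => hg ((smul_base_iff K g).mp e)
  let f : Option K → Pt K := fun o => o.elim (base K) fun k => (k : G) • g • base K
  have hf : Function.Bijective f := by
    constructor
    · rintro (_ | k) (_ | l) e
      · rfl
      · exact absurd e.symm fun e => hc (MulAction.injective (l : G)
          (e.trans ((smul_base_iff K _).mpr (le_normalizer l.2)).symm))
      · exact absurd e fun e => hc (MulAction.injective (k : G)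
          (e.trans ((smul_base_iff K _).mpr (le_normalizer k.2)).symm))
      · refine congrArg some (Subtype.ext (inv_mul_eq_one.mp
          (H.pair_disj hc (mul_mem (inv_mem l.2) k.2) ?_)).symm)
        rw [mul_smul]
        exact inv_smul_eq_iff.mpr e
    · intro c
      by_cases hcb : c = base K
      · exact ⟨none, hcb.symm⟩
      · obtain ⟨k, hk, e⟩ := H.exists_smul_eq hc hcb
        exact ⟨some ⟨k, hk⟩, e⟩
  rw [← Nat.card_eq_of_bijective f hf, Finite.card_option]

theorem Hyp.odd_card_pt : Odd (Nat.card (Pt K)) := by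
  obtain ⟨m, hm⟩ := H.two_dvd
  exact ⟨m, by rw [H.card_pt, hm]⟩

theorem Hyp.two_trans {p q r s : Pt K} (hpq : p ≠ q) (hrs : r ≠ s) :
    ∃ g : G, g • p = r ∧ g • q = s := by
  induction p using QuotientGroup.induction_on with | _ g => ?_
  induction r using QuotientGroup.induction_on with | _ g' => ?_
  rw [← smul_base] at hpq hrs ⊢
  rw [← smul_base]
  have h1 : g⁻¹ • q ≠ base K := fun e => hpq (by rw [← e, smul_inv_smul])
  have h2 : g'⁻¹ • s ≠ base K := fun e => hrs (by rw [← e, smul_inv_smul])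
  obtain ⟨k, hk, e⟩ := H.exists_smul_eq h1 h2
  refine ⟨g' * k * g⁻¹, ?_, ?_⟩
  · rw [mul_smul, mul_smul, inv_smul_smul, (smul_base_iff K k).mpr (le_normalizer hk)]
  · rw [mul_smul, mul_smul, e, smul_inv_smul]

theorem Hyp.three {g : G} {p q r : Pt K} (hpq : p ≠ q) (hqr : q ≠ r) (hpr : p ≠ r)
    (hp : g • p = p) (hq : g • q = q) (hr : g • r = r) : g = 1 := by
  induction p using QuotientGroup.induction_on with | _ x => ?_
  rw [← smul_base] at hp hpq hpr
  set y := x⁻¹ * g * x with hy
  have hfix : ∀ z : Pt K, g • z = z → y • x⁻¹ • z = x⁻¹ • z := fun z hz => by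
    rw [hy, mul_smul, mul_smul, smul_inv_smul, hz]
  have hyb : y • base K = base K := by
    have := hfix _ hp
    rwa [inv_smul_smul] at this
  have h1 : x⁻¹ • q ≠ base K := fun e => hpq (by rw [← e, smul_inv_smul])
  have h2 : x⁻¹ • r ≠ base K := fun e => hpr (by rw [← e, smul_inv_smul])
  have hy1 : y ∈ pair G (base K) (x⁻¹ • q) := ⟨hyb, hfix q hq⟩
  have hy2 : y ∈ pair G (base K) (x⁻¹ • r) := ⟨hyb, hfix r hr⟩
  by_contra hg
  have hy0 : y ≠ 1 := fun e => hg (by
    rw [hy] at e
    calc g = x * (x⁻¹ * g * x) * x⁻¹ := by group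
      _ = 1 := by rw [e]; group)
  refine hqr (MulAction.injective x⁻¹ (H.pair_inj h2 h1 fun e he => ?_))
  exact H.mem_pair_of_commute h1 hy1 hy0 ((smul_base_iff K e).mp he.1) (H.pair_comm h2 he hy2)

theorem Hyp.zassenhaus : Cfsg.IsZassenhausGroup G (Pt K) := by
  obtain ⟨a, b, ha, hb, ha2, hb2, hab⟩ := H.two
  obtain ⟨g, hg⟩ : ∃ g, g ∉ normalizer (K : Set G) := by
    by_contra h
    push Not at h
    exact H.notNormal (eq_top_iff.mpr fun x _ => h x)
  have hc : g • base K ≠ base K := fun e => hg ((smul_base_iff K g).mp e)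
  obtain ⟨d, hd, hd1⟩ := H.exists_pair_ne hc
  have hcard := H.card_pt
  refine ⟨⟨fun {x y} h => ?_⟩, MulAction.is_two_pretransitive_iff.mpr fun h h' => H.two_trans h h',
    fun g p q r h h' h'' => H.three h h' h'', ⟨d, hd1, _, _, hc.symm, hd.1, hd.2⟩, ?_⟩
  · classical
    have := Fintype.ofFinite (Pt K)
    have h3 : 2 < Fintype.card (Pt K) := by
      rw [← Nat.card_eq_fintype_card, hcard]
      have : 2 ≤ Nat.card K := Nat.le_of_dvd Nat.card_pos H.two_dvd
      omega
    obtain ⟨p, q, r, hpq, hpr, hqr⟩ := Fintype.two_lt_card_iff.mp h3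
    have e : ∀ z : Pt K, (y⁻¹ * x) • z = z := fun z => by rw [mul_smul, h, inv_smul_smul]
    exact (inv_mul_eq_one.mp (H.three hpq hqr hpr (e p) (e q) (e r))).symm
  · intro N hN hNt
    by_contra hno
    push Not at hno
    have hNM : ∀ n ∈ N, n ∈ normalizer (K : Set G) → n = 1 := fun n hn hnM => by
      have h1 : (⟨n, hn⟩ : N) ∈ stabilizer N (base K) := (smul_base_iff K n).mpr hnM
      exact congrArg Subtype.val ((Subgroup.eq_bot_iff_forall _).mp (hno (base K)) _ h1)
    have hconj : ∀ t : G, Inv2 t → ∀ n ∈ N, t * n * t ∈ N := fun t ht n hn => by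
      have := hN.conj_mem n hn t
      rwa [ht.inv_eq] at this
    have hinv : ∀ t ∈ K, Inv2 t → ∀ n ∈ N, t * n * t = n⁻¹ := fun t ht ht2 n hn =>
      InvAb.inverts_of_fixedPointFree ht2.2 (hconj t ht2) (fun m hm e => hNM m hm (le_normalizer
        (H.mem_of_commute ht ht2 (by
          calc m * t = t * m * t * t := by rw [e]
            _ = t * m := by rw [mul_assoc (t * m) t t, ht2.2, mul_one])))) hn
    obtain ⟨n, hn⟩ := hNt.exists_smul_eq (base K) (g • base K)
    have hn1 : (n : G) ≠ 1 := fun e => hc (by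
      rw [← hn]
      show (n : G) • base K = base K
      rw [e, one_smul])
    have hab1 : a * b ≠ 1 := fun e => hab (by rw [mul_eq_one_iff_eq_inv.mp e, hb2.inv_eq])
    have hnab : Commute (n : G) (a * b) := by
      have h1 := hinv b hb hb2 n n.2
      have h2 := hinv a ha ha2 _ (N.inv_mem n.2)
      rw [inv_inv] at h2
      show (n : G) * (a * b) = a * b * n
      calc (n : G) * (a * b) = a * (n : G)⁻¹ * a * (a * b) := by rw [h2]
        _ = a * (n : G)⁻¹ * (a * a) * b := by group
        _ = a * (b * n * b) * b := by rw [ha2.2, mul_one, h1]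
        _ = a * b * n * (b * b) := by group
        _ = _ := by rw [hb2.2, mul_one]
    exact hn1 (hNM n n.2 (le_normalizer (H.le_of_commute (mul_mem ha hb) hab1 hnab)))

theorem Hyp.simple : IsSimpleGroup G := by
  haveI := Fintype.ofFinite (Pt K)
  exact S0338.result H.zassenhaus (by rw [← Nat.card_eq_fintype_card]; exact H.odd_card_pt)

end Cfsg.Agent.SuzukiTI
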